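import Groth.Agent.RamMapLib.Wronski
import Mathlib.RingTheory.Polynomial.GaussLemma

/-!
# Polynomials in characteristic `p`: exact forms, antiderivatives and local congruences
-/

set_option autoImplicit false

universe u

open Polynomial

noncomputable section

namespace InsepLimLib

variable {k : Type u} [Field k] (p : ℕ) [Fact p.Prime] [CharP k p]

/-- No monomials of exponent `-1` modulo `p`. -/
def Exact (f : k[X]) : Prop := ∀ m, p ∣ m + 1 → f.coeff m = 0

theorem exact_derivative (f : k[X]) : Exact p (derivative f) := fun m hm => by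
  rw [coeff_derivative, ← Nat.cast_add_one, (CharP.cast_eq_zero_iff k p _).2 hm, mul_zero]

theorem exists_derivative_eq {f : k[X]} (hf : Exact p f) : ∃ T, derivative T = f := by
  refine ⟨f.sum fun m a => monomial (m + 1) (a / (m + 1 : ℕ)), ?_⟩
  rw [Polynomial.sum_def, map_sum]
  conv_rhs => rw [f.as_sum_support]
  refine Finset.sum_congr rfl fun m hm => ?_
  rw [derivative_monomial, Nat.add_sub_cancel, div_mul_cancel₀]
  exact fun h => mem_support_iff.1 hm (hf m ((CharP.cast_eq_zero_iff k p _).1 h))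

variable {p}

theorem dvd_of_derivative_eq_zero {f : k[X]} (hf : derivative f = 0) {i : ℕ} (hi : f.coeff i ≠ 0) : p ∣ i := by
  cases i with
  | zero => exact dvd_zero _
  | succ i =>
    have h := congrArg (fun g => coeff g i) hf
    simp only [coeff_derivative, coeff_zero, ← Nat.cast_add_one] at h
    exact (CharP.cast_eq_zero_iff k p _).1 ((mul_eq_zero.1 h).resolve_left hi)

theorem dvd_natDegree {f : k[X]} (hf : derivative f = 0) : p ∣ f.natDegree := by
  by_cases h0 : f = 0
  · simp [h0]
  · exact dvd_of_derivative_eq_zero hf (leadingCoeff_ne_zero.2 h0)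

theorem exact_of_mul {V f : k[X]} (hV : derivative V = 0) (hV0 : V ≠ 0) (h : Exact p (V * f)) : Exact p f := by
  classical
  set Z := ∑ m ∈ f.support.filter (fun m => p ∣ m + 1), monomial m (f.coeff m) with hZ
  have hZc : ∀ m, Z.coeff m = if p ∣ m + 1 then f.coeff m else 0 := fun m => by
    rw [hZ, finsetSum_coeff]
    simp only [coeff_monomial, Finset.sum_ite_eq', Finset.mem_filter, mem_support_iff]
    split_ifs <;> aesop
  obtain ⟨Y, hY⟩ := exists_derivative_eq (f := f - Z) p fun m hm => by rw [coeff_sub, hZc, if_pos hm, sub_self]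
  have hVZ : V * Z = 0 := Polynomial.ext fun m => by
    rw [coeff_zero]
    by_cases hm : p ∣ m + 1
    · have h1 : V * Z = V * f - derivative (V * Y) := by rw [derivative_mul, hV, hY]; ring
      rw [h1, coeff_sub, h m hm, exact_derivative p _ m hm, sub_self]
    · rw [coeff_mul]
      refine Finset.sum_eq_zero fun x hx => ?_
      by_contra hne
      obtain ⟨h1, h2⟩ := mul_ne_zero_iff.1 hne
      rw [hZc] at h2
      split at h2
      · rename_i hx2
        have h3 := dvd_add (dvd_of_derivative_eq_zero (p := p) hV h1) hx2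
        rw [Finset.HasAntidiagonal.mem_antidiagonal] at hx
        exact hm (by rwa [← add_assoc, hx] at h3)
      · exact h2 rfl
  intro m hm
  have h1 := congrArg (fun g => coeff g m) ((mul_eq_zero.1 hVZ).resolve_left hV0)
  simpa [hZc, hm] using h1

/-- A polynomial with derivative divisible by `(X - b) ^ (N - 1)` is a constant modulo `(X - b) ^ N`. -/
theorem exists_const_local (p : ℕ) [Fact p.Prime] [CharP k p] {T : k[X]} {b : k} {N : ℕ}
    (h : (X - C b) ^ (N - 1) ∣ derivative T) : ∃ u : k[X], derivative u = 0 ∧ (X - C b) ^ N ∣ T - u := by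
  classical
  set T1 := T.comp (X + C b) with hT1
  set u1 := ∑ i ∈ (Finset.range N).filter (fun i => p ∣ i), monomial i (T1.coeff i) with hu1
  have hu1' : derivative u1 = 0 := by
    rw [hu1, map_sum]
    refine Finset.sum_eq_zero fun i hi => ?_
    rw [derivative_monomial, (CharP.cast_eq_zero_iff k p i).2 (Finset.mem_filter.1 hi).2, mul_zero, map_zero]
  have hd : X ^ (N - 1) ∣ derivative T1 := by
    obtain ⟨q, hq⟩ := h
    refine ⟨q.comp (X + C b), ?_⟩
    rw [hT1, derivative_comp, hq]
    simp
  have hX : X ^ N ∣ T1 - u1 := X_pow_dvd_iff.2 fun i hi => by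
    rw [coeff_sub, hu1, finsetSum_coeff]
    simp only [coeff_monomial, Finset.sum_ite_eq', Finset.mem_filter, Finset.mem_range]
    split_ifs with hc
    · exact sub_self _
    · rw [sub_zero]
      have hni : ¬ p ∣ i := fun h' => hc ⟨hi, h'⟩
      obtain ⟨j, rfl⟩ : ∃ j, i = j + 1 := ⟨i - 1, by
        rcases Nat.eq_zero_or_pos i with rfl | h'
        · exact absurd (dvd_zero p) hni
        · omega⟩
      have h1 := X_pow_dvd_iff.1 hd j (by omega)
      rw [coeff_derivative, ← Nat.cast_add_one] at h1
      exact (mul_eq_zero.1 h1).resolve_right fun h' => hni ((CharP.cast_eq_zero_iff k p _).1 h')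
  refine ⟨u1.comp (X - C b), by simp [derivative_comp, hu1'], ?_⟩
  obtain ⟨q, hq⟩ := hX
  refine ⟨q.comp (X - C b), ?_⟩
  have h1 := congrArg (fun g => g.comp (X - C b)) hq
  simpa [hT1, sub_comp, comp_assoc] using h1

/-- Gluing local constants. -/
theorem exists_const (p : ℕ) [Fact p.Prime] [CharP k p] (s : Finset k) (N : k → ℕ) {T : k[X]}
    (h : ∀ b ∈ s, (X - C b) ^ (N b - 1) ∣ derivative T) :
    ∃ u : k[X], derivative u = 0 ∧ ∀ b ∈ s, (X - C b) ^ N b ∣ T - u := by
  classical
  induction s using Finset.induction_on with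
  | empty => exact ⟨0, by simp, by simp⟩
  | insert a s has ih =>
    obtain ⟨u, hu, hus⟩ := ih fun b hb => h b (Finset.mem_insert_of_mem hb)
    obtain ⟨ua, hua, hua'⟩ := exists_const_local p (h a (Finset.mem_insert_self a s))
    set w := ∏ b ∈ s, (X - C b) ^ (p * N b) with hw
    have hw' : derivative w = 0 := by
      rw [hw, derivative_prod_finset]
      refine Finset.sum_eq_zero fun b _ => ?_
      rw [derivative_pow, Nat.cast_mul, CharP.cast_eq_zero, zero_mul, map_zero, zero_mul, zero_mul, mul_zero]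
    have hc : w.eval a ≠ 0 := by
      rw [hw, eval_prod]
      refine Finset.prod_ne_zero_iff.2 fun b hb => ?_
      rw [eval_pow, eval_sub, eval_X, eval_C]
      exact pow_ne_zero _ (sub_ne_zero.2 fun hab : a = b => has (by rw [hab]; exact hb))
    set t := 1 - C (w.eval a)⁻¹ * w with ht
    have ht' : derivative t = 0 := by simp [ht, hw']
    have hta : X - C a ∣ t := dvd_iff_isRoot.2 (by simp [ht, IsRoot, inv_mul_cancel₀ hc])
    set G := (∑ i ∈ Finset.range (N a), t ^ i) with hG
    have hG' : derivative G = 0 := by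
      rw [hG, map_sum]
      exact Finset.sum_eq_zero fun i _ => by rw [derivative_pow, ht', mul_zero]
    refine ⟨u + w * (C (w.eval a)⁻¹ * G * (ua - u)), ?_, fun b hb => ?_⟩
    · simp [derivative_mul, hu, hua, hw', hG']
    · rcases Finset.mem_insert.1 hb with rfl | hb
      · have hgeom : t ^ N b = 1 - C (w.eval b)⁻¹ * w * G := by
          have h1 := geom_sum_mul t (N b)
          rw [← hG] at h1
          linear_combination (ht : t = 1 - C (w.eval b)⁻¹ * w) * G - h1
        rw [show T - (u + w * (C (w.eval b)⁻¹ * G * (ua - u))) = (T - ua) + t ^ N b * (ua - u) by rw [hgeom]; ring]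
        exact dvd_add hua' ((pow_dvd_pow_of_dvd hta _).mul_right _)
      · rw [← sub_sub]
        refine dvd_sub (hus b hb) (Dvd.dvd.mul_right ?_ _)
        exact (pow_dvd_pow _ (Nat.le_mul_of_pos_left _ (Nat.Prime.pos Fact.out))).trans (Finset.dvd_prod_of_mem _ hb)

omit [Fact p.Prime] [CharP k p] in
theorem euler (b : k) (r : ℕ) (H : k[X]) :
    (X - C b) * derivative ((X - C b) ^ r * H) = (X - C b) ^ r * ((r : k[X]) * H + (X - C b) * derivative H) := by
  cases r with
  | zero => simp
  | succ r =>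
    rw [derivative_mul, derivative_pow, derivative_X_sub_C, Nat.add_sub_cancel, map_natCast]
    ring

omit [Fact p.Prime] [CharP k p] in
/-- The orders allowed by the second order equation at a point. -/
theorem local_congr {R H S R1 H1 : k[X]} {b : k} {a r : ℕ} (hR : R = (X - C b) ^ a * R1) (hR1 : R1.eval b ≠ 0)
    (hH : H = (X - C b) ^ r * H1) (hH1 : H1.eval b ≠ 0)
    (heq : R * derivative (derivative H) - derivative R * derivative H = S * H)
    (hS : (X - C b) ^ (a - 1) ∣ S) : (r : k) * ((r : k) - 1 - a) = 0 := by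
  set Y := X - C b with hY
  obtain ⟨S1, hS1⟩ : Y ^ (a + 1) ∣ Y ^ 2 * S := by
    refine (pow_dvd_pow _ (show a + 1 ≤ 2 + (a - 1) by omega)).trans ?_
    rw [pow_add]
    exact mul_dvd_mul_left _ hS
  set A1 := (r : k[X]) * H1 + Y * derivative H1 with hA1
  have e1 : Y * derivative H = Y ^ r * A1 := by rw [hH]; exact euler b r H1
  have e2 : Y * derivative R = Y ^ a * ((a : k[X]) * R1 + Y * derivative R1) := by rw [hR]; exact euler b a R1
  have e3 : Y * derivative (Y * derivative H) = Y ^ r * ((r : k[X]) * A1 + Y * derivative A1) := by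
    rw [e1]; exact euler b r A1
  have e4 : derivative (Y * derivative H) = derivative H + Y * derivative (derivative H) := by
    rw [derivative_mul, hY, derivative_X_sub_C, one_mul]
  rw [e4] at e3
  have key : Y ^ (a + r) * (R1 * ((r : k[X]) * A1 + Y * derivative A1 - A1) -
      ((a : k[X]) * R1 + Y * derivative R1) * A1 - Y * S1 * H1) = 0 := by
    rw [pow_add]
    linear_combination Y ^ 2 * heq - Y ^ 2 * derivative (derivative H) * hR - Y ^ a * R1 * e3 + Y ^ a * R1 * e1
      + Y * derivative H * e2 + Y ^ a * ((a : k[X]) * R1 + Y * derivative R1) * e1 + H * hS1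
      + Y ^ (a + 1) * S1 * hH
  have h0 := congrArg (Polynomial.eval b) ((mul_eq_zero.1 key).resolve_left (pow_ne_zero _ (X_sub_C_ne_zero b)))
  simp [hY, hA1] at h0
  have h1 : R1.eval b * H1.eval b * ((r : k) * ((r : k) - 1 - a)) = 0 := by linear_combination h0
  exact (mul_eq_zero.1 h1).resolve_left (mul_ne_zero hR1 hH1)

omit [Fact p.Prime] [CharP k p] in
/-- The second order equation at infinity. -/
theorem coeff_infinity {R H S : k[X]} {N : ℕ} (hN : 2 ≤ N) (hR : R.natDegree ≤ N) (hR1 : R.coeff N = 1)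
    (hS : S.natDegree ≤ N - 2) (hH : H ≠ 0)
    (heq : R * derivative (derivative H) - derivative R * derivative H = S * H) :
    S.coeff (N - 2) = (H.natDegree : k) * ((H.natDegree : k) - 1) - (N : k) * H.natDegree := by
  set q := H.natDegree
  have e1 : R * (X * derivative (X * derivative H) - X * derivative H) - X * derivative R * (X * derivative H) =
      X ^ 2 * S * H := by
    rw [derivative_mul, derivative_X, one_mul]
    linear_combination X ^ 2 * heq
  have d1 := RamMapLib.natDegree_X_mul_derivative_le (f := H) (d := q) le_rfl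
  have d2 := RamMapLib.natDegree_X_mul_derivative_le d1
  have d3 := RamMapLib.natDegree_X_mul_derivative_le hR
  have d4 : (X ^ 2 * S).natDegree ≤ N := by
    refine natDegree_mul_le.trans ?_
    rw [natDegree_X_pow]
    omega
  have h := congrArg (fun g => coeff g (N + q)) e1
  simp only [coeff_sub] at h
  rw [coeff_mul_add_eq_of_natDegree_le hR ((natDegree_sub_le _ _).trans (max_le d2 d1)),
    coeff_mul_add_eq_of_natDegree_le d3 d1, coeff_mul_add_eq_of_natDegree_le d4 (le_refl q), coeff_sub,
    RamMapLib.coeff_X_mul_derivative, RamMapLib.coeff_X_mul_derivative, RamMapLib.coeff_X_mul_derivative,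
    coeff_X_pow_mul', if_pos hN, hR1] at h
  refine mul_right_cancel₀ (leadingCoeff_ne_zero.2 hH) ?_
  rw [leadingCoeff]
  linear_combination -h

/-- Splitting off the `p`-th power part of a polynomial. -/
theorem exists_split [IsAlgClosed k] (p : ℕ) [Fact p.Prime] [CharP k p] {H : k[X]} (hH : H ≠ 0) :
    ∃ (B : Finset k) (r : k → ℕ) (U : k[X]), H = (∏ b ∈ B, (X - C b) ^ r b) * U ∧ derivative U = 0 ∧
      (∀ b ∈ B, r b = H.rootMultiplicity b % p) := by
  classical
  refine ⟨H.roots.toFinset, fun b => H.rootMultiplicity b % p,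
    C H.leadingCoeff * ∏ b ∈ H.roots.toFinset, (X - C b) ^ (p * (H.rootMultiplicity b / p)), ?_, ?_, fun b _ => rfl⟩
  · conv_lhs => rw [(IsAlgClosed.splits H).eq_prod_roots, Finset.prod_multiset_map_count]
    rw [mul_left_comm, ← Finset.prod_mul_distrib]
    congr 1
    refine Finset.prod_congr rfl fun b _ => ?_
    rw [← pow_add, Nat.mod_add_div, count_roots]
  · rw [derivative_mul, derivative_C, zero_mul, zero_add, derivative_prod_finset]
    refine mul_eq_zero_of_right _ (Finset.sum_eq_zero fun b _ => ?_)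
    rw [derivative_pow, Nat.cast_mul, CharP.cast_eq_zero, zero_mul, map_zero, zero_mul, zero_mul, mul_zero]

omit [Fact p.Prime] [CharP k p] in
theorem exists_factor {G : k[X]} (hG : G ≠ 0) (b : k) :
    ∃ G1 : k[X], G = (X - C b) ^ G.rootMultiplicity b * G1 ∧ G1.eval b ≠ 0 := by
  obtain ⟨q, hq, hq'⟩ := exists_eq_pow_rootMultiplicity_mul_and_not_dvd G hG b
  exact ⟨q, hq, fun h => hq' (dvd_iff_isRoot.2 h)⟩

/-- A polynomial of zero Wronskian with a reduced polynomial is a multiple of it. -/
theorem pow_dvd_of_wronskian_eq_zero {Q F : k[X]} {b : k} {r : ℕ} {Q1 : k[X]} (hQ : Q = (X - C b) ^ r * Q1)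
    (hQ1 : Q1.eval b ≠ 0) (hr : r < p) (hW : wronskian Q F = 0) : (X - C b) ^ r ∣ F := by
  by_cases hF : F = 0
  · simp [hF]
  obtain ⟨F1, hF1, hF1'⟩ := exists_factor hF b
  set s := F.rootMultiplicity b
  by_contra hc
  have hsr : s < r := by
    by_contra h
    exact hc (by rw [hF1]; exact (pow_dvd_pow _ (by omega)).mul_right _)
  set Y := X - C b with hY
  have e1 : Y * derivative Q = Y ^ r * ((r : k[X]) * Q1 + Y * derivative Q1) := by rw [hQ]; exact euler b r Q1
  have e2 : Y * derivative F = Y ^ s * ((s : k[X]) * F1 + Y * derivative F1) := by rw [hF1]; exact euler b s F1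
  have key : Y ^ (r + s) * (Q1 * ((s : k[X]) * F1 + Y * derivative F1) -
      ((r : k[X]) * Q1 + Y * derivative Q1) * F1) = 0 := by
    rw [wronskian] at hW
    rw [pow_add]
    linear_combination Y * hW - Y * derivative F * hQ + Y * derivative Q * hF1 + Y ^ s * F1 * e1 - Y ^ r * Q1 * e2
  have h0 := congrArg (Polynomial.eval b) ((mul_eq_zero.1 key).resolve_left (pow_ne_zero _ (X_sub_C_ne_zero b)))
  simp [hY] at h0
  have h1 : ((r - s : ℕ) : k) * (Q1.eval b * F1.eval b) = 0 := by
    rw [Nat.cast_sub hsr.le]; linear_combination -h0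
  have h2 := Nat.le_of_dvd (by omega)
    ((CharP.cast_eq_zero_iff k p _).1 ((mul_eq_zero.1 h1).resolve_right (mul_ne_zero hQ1 hF1')))
  omega

theorem dvd_of_wronskian_eq_zero {B : Finset k} {r : k → ℕ} (hr : ∀ b ∈ B, r b < p) {F : k[X]}
    (hW : wronskian (∏ b ∈ B, (X - C b) ^ r b) F = 0) : ∏ b ∈ B, (X - C b) ^ r b ∣ F := by
  classical
  refine Finset.prod_dvd_of_coprime
    (fun a _ b _ hab => ((Polynomial.pairwise_coprime_X_sub_C (s := fun x : k => x) Function.injective_id hab)).pow)
    fun b hb => ?_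
  refine pow_dvd_of_wronskian_eq_zero (p := p) (Q1 := ∏ c ∈ B.erase b, (X - C c) ^ r c)
    (Finset.mul_prod_erase B (fun c => (X - C c) ^ r c) hb).symm ?_ (hr b hb) hW
  rw [eval_prod]
  exact Finset.prod_ne_zero_iff.2 fun c hc => by
    simpa using pow_ne_zero _ (sub_ne_zero.2 (Finset.ne_of_mem_erase hc).symm)

/-- A partner of a reduced polynomial with prescribed Wronskian. -/
theorem exists_partner {B : Finset k} {r : k → ℕ} {R : k[X]}
    (hord : ∀ b ∈ B, (X - C b) ^ (r b - 1) ∣ R)
    (hex : Exact p (R * (∏ b ∈ B, (X - C b) ^ r b) ^ (p - 2))) :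
    ∃ F, wronskian (∏ b ∈ B, (X - C b) ^ r b) F = R := by
  classical
  set Q := ∏ b ∈ B, (X - C b) ^ r b with hQ
  obtain ⟨T, hT⟩ := exists_derivative_eq p hex
  have hp := Nat.Prime.two_le (Fact.out : p.Prime)
  obtain ⟨u, hu, hdvd⟩ := exists_const p B (fun b => (p - 1) * r b) (T := T) fun b hb => by
    rw [hT]
    refine (pow_dvd_pow _ (show (p - 1) * r b - 1 ≤ (r b - 1) + (p - 2) * r b by
      rw [show p - 1 = 1 + (p - 2) by omega, add_mul, one_mul]; omega)).trans ?_
    rw [pow_add, mul_comm (p - 2), pow_mul]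
    exact mul_dvd_mul (hord b hb) (pow_dvd_pow_of_dvd (Finset.dvd_prod_of_mem _ hb) _)
  obtain ⟨F, hF⟩ : Q ^ (p - 1) ∣ T - u := by
    rw [hQ, ← Finset.prod_pow]
    simp only [← pow_mul, mul_comm (r _)]
    exact Finset.prod_dvd_of_coprime
      (fun a _ b _ hab => ((Polynomial.pairwise_coprime_X_sub_C (s := fun x : k => x) Function.injective_id hab)).pow)
      hdvd
  refine ⟨F, ?_⟩
  have h1 := congrArg derivative hF
  rw [derivative_sub, hu, sub_zero, hT, derivative_mul, derivative_pow] at h1
  have h2 : (C ((p - 1 : ℕ) : k) : k[X]) = -1 := by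
    rw [Nat.cast_sub (by omega), CharP.cast_eq_zero, Nat.cast_one, zero_sub, map_neg, map_one]
  rw [h2, show p - 1 - 1 = p - 2 by omega, show Q ^ (p - 1) = Q ^ (p - 2) * Q by
    rw [← pow_succ, show p - 2 + 1 = p - 1 by omega]] at h1
  have hQ0 : Q ≠ 0 := by
    rw [hQ]; exact Finset.prod_ne_zero_iff.2 fun b _ => pow_ne_zero (r b) (X_sub_C_ne_zero b)
  refine mul_left_cancel₀ (pow_ne_zero (p - 2) hQ0) ?_
  rw [wronskian]
  linear_combination -h1

/-- The partner can be chosen of the degree forced at infinity. -/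
theorem exists_partner_degree (p : ℕ) [Fact p.Prime] [CharP k p] {Q R : k[X]} (hW : ∃ F, wronskian Q F = R) (hQ : Q.Monic) (hR : R ≠ 0)
    {q : ℕ} (hq : Q.natDegree = q) (hqR : 2 * q ≤ R.natDegree) :
    ∃ F, wronskian Q F = R ∧ F.natDegree + q = R.natDegree + 1 := by
  classical
  have hW' : ∃ D, ∃ F, wronskian Q F = R ∧ F.natDegree = D := by
    obtain ⟨F, hF⟩ := hW; exact ⟨_, F, hF, rfl⟩
  obtain ⟨F, hF, hFD⟩ := Nat.find_spec hW'
  refine ⟨F, hF, ?_⟩
  set D := F.natDegree with hD
  have hlt : R.natDegree < q + D := by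
    rw [← hq, hD, ← hF]; exact natDegree_wronskian_lt_add (hF ▸ hR)
  have hFD0 : F ≠ 0 := fun h => hR (by rw [← hF, h, wronskian_zero_right])
  have hqD : q ≤ D := by omega
  have hndvd : ¬ p ∣ D - q := by
    intro hdvd
    set F2 := F - C F.leadingCoeff * X ^ (D - q) * Q with hF2
    have hXd : derivative (C F.leadingCoeff * X ^ (D - q) : k[X]) = 0 := by
      rw [derivative_C_mul_X_pow, (CharP.cast_eq_zero_iff k p _).2 hdvd, mul_zero, map_zero, zero_mul]
    have hW2 : wronskian Q F2 = R := by
      rw [← hF, hF2, wronskian, wronskian, derivative_sub, derivative_mul, hXd]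
      ring
    have hdeg : F2.degree < F.degree := by
      refine degree_sub_lt ?_ hFD0 ?_
      · rw [degree_mul, degree_C_mul_X_pow _ (leadingCoeff_ne_zero.2 hFD0), degree_eq_natDegree hQ.ne_zero,
          degree_eq_natDegree hFD0, hq, ← hD]
        norm_cast
        omega
      · rw [leadingCoeff_mul, leadingCoeff_C_mul_X_pow, hQ.leadingCoeff, mul_one]
    have hne : F2 ≠ 0 := fun h => hR (by rw [← hW2, h, wronskian_zero_right])
    have h3 := Nat.find_min' hW' ⟨F2, hW2, rfl⟩
    have h4 := natDegree_lt_natDegree hne hdeg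
    omega
  have hc := RamMapLib.coeff_X_mul_wronskian (f := Q) (g := F) (i := q) (j := D) hq.le le_rfl
  have hne : (X * wronskian Q F).coeff (q + D) ≠ 0 := by
    rw [hc, ← Nat.cast_sub hqD, show Q.coeff q = 1 by rw [← hq]; exact hQ, one_mul]
    exact mul_ne_zero (fun h => hndvd ((CharP.cast_eq_zero_iff k p _).1 h)) (leadingCoeff_ne_zero.2 hFD0)
  rw [hF, show q + D = (q + D - 1) + 1 by omega, coeff_X_mul] at hne
  have h5 := le_natDegree_of_ne_zero hne
  omega

end InsepLimLib

end
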