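import Groth.Agent.InsepLimLib.Pencil

/-!
# Special position of the points of an inseparable limit
-/

set_option autoImplicit false

universe u

open Polynomial W4c1limliniiii

noncomputable section

namespace InsepLimLib

theorem exists_new_pencil {k : Type u} [Field k] [IsAlgClosed k] (p : ℕ) [Fact p.Prime] [CharP k p] {n d : ℕ}
    {e : Fin n → ℕ} {P : Fin n → k} (hP : Function.Injective P) (he : ∀ i, 2 ≤ e i) (hlt : ∀ i, e i < p)
    (hsum : (∑ i, e i) + 2 = 2 * d + n) {H F2 S : k[X]} (hHd : H.natDegree ≤ d) (hF2d : F2.natDegree ≤ d)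
    (hind : ∀ x y : k, C x * H + C y * F2 = 0 → x = 0 ∧ y = 0) (hW : wronskian H F2 = 0)
    (hSd : S.natDegree ≤ 2 * d - 4)
    (heq : (∏ i, (X - C (P i)) ^ (e i - 1)) * derivative (derivative H) -
      derivative (∏ i, (X - C (P i)) ^ (e i - 1)) * derivative H = S * H)
    (hS : ∀ i, (X - C (P i)) ^ (e i - 2) ∣ S)
    (hStop : 2 ≤ d → S.coeff (2 * d - 4) = (d : k) * ((d : k) - 1) - ((2 * d - 2 : ℕ) : k) * d)
    (hex : Exact p ((∏ i, (X - C (P i)) ^ (e i - 1)) * H ^ (p - 2))) :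
    ∃ m ε : ℕ, 1 ≤ m ∧ m * p ≤ d ∧ ε ≤ 1 ∧
      ∃ V ∈ ramMaps (d + m * p - 1 + ε) P e, HasRamIdxInf (d + m * p - 1 + ε) V (2 * m * p - 1 + 2 * ε) := by
  classical
  set R := ∏ i, (X - C (P i)) ^ (e i - 1) with hR
  have hp := Nat.Prime.two_le (Fact.out : p.Prime)
  have hH0 : H ≠ 0 := fun h => one_ne_zero (hind 1 0 (by simp [h])).1
  have hF20 : F2 ≠ 0 := fun h => one_ne_zero (hind 0 1 (by simp [h])).2
  obtain ⟨B, r, U, hHQ, hU, hr⟩ := exists_split p hH0
  set Q := ∏ b ∈ B, (X - C b) ^ r b with hQ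
  have hQm : Q.Monic := monic_prod_of_monic _ _ fun b _ => (monic_X_sub_C b).pow _
  have hQ0 : Q ≠ 0 := hQm.ne_zero
  have hU0 : U ≠ 0 := fun h => hH0 (by rw [hHQ, h, mul_zero])
  have hrlt : ∀ b ∈ B, r b < p := fun b hb => by rw [hr b hb]; exact Nat.mod_lt _ (by omega)
  have hWQ : wronskian Q F2 = 0 := by
    have h1 : U * wronskian Q F2 = 0 := by
      rw [← hW, hHQ, wronskian, wronskian, derivative_mul, hU]; ring
    exact (mul_eq_zero.1 h1).resolve_left hU0
  obtain ⟨V, hV⟩ := dvd_of_wronskian_eq_zero (p := p) hrlt hWQ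
  rw [← hQ] at hV
  have hV0 : V ≠ 0 := fun h => hF20 (by rw [hV, h, mul_zero])
  have hV' : derivative V = 0 := by
    have h1 : Q ^ 2 * derivative V = 0 := by
      rw [← hWQ, hV, wronskian, derivative_mul]; ring
    exact (mul_eq_zero.1 h1).resolve_left (pow_ne_zero _ hQ0)
  set q := Q.natDegree with hq
  have hHdeg : H.natDegree = q + U.natDegree := by rw [hHQ, natDegree_mul hQ0 hU0]
  have hqd : q + p ≤ d := by
    by_cases hu : U.natDegree = 0
    · by_cases hv : V.natDegree = 0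
      · obtain ⟨u, hu'⟩ := natDegree_eq_zero.1 hu
        obtain ⟨v, hv'⟩ := natDegree_eq_zero.1 hv
        have hu0 : u ≠ 0 := fun h => hU0 (by rw [← hu', h, map_zero])
        exact absurd (hind v (-u) (by rw [hHQ, hV, ← hu', ← hv', map_neg]; ring)).2 (neg_ne_zero.2 hu0)
      · have h1 := Nat.le_of_dvd (Nat.pos_of_ne_zero hv) (dvd_natDegree (p := p) hV')
        rw [hV, natDegree_mul hQ0 hV0] at hF2d
        omega
    · have h1 := Nat.le_of_dvd (Nat.pos_of_ne_zero hu) (dvd_natDegree (p := p) hU)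
      omega
  have hN : R.natDegree = 2 * d - 2 := natDegree_ram (fun i => (he i).trans' one_le_two) hsum
  have hdelta : (((d - q : ℕ) : k)) * (((d - q : ℕ) : k) - 1) = 0 := by
    have h1 := coeff_infinity (R := R) (H := H) (S := S) (N := 2 * d - 2) (by omega) hN.le
      (by rw [← hN]; exact (monic_prod_of_monic _ _ fun i _ => (monic_X_sub_C _).pow _))
      (by omega) hH0 heq
    rw [show 2 * d - 2 - 2 = 2 * d - 4 by omega, hStop (by omega)] at h1
    have hqH : (H.natDegree : k) = q := by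
      rw [hHdeg, Nat.cast_add, (CharP.cast_eq_zero_iff k p _).2 (dvd_natDegree (p := p) hU), add_zero]
    rw [hqH, Nat.cast_sub (show 2 ≤ 2 * d by omega)] at h1
    rw [Nat.cast_sub (show q ≤ d by omega)]
    push_cast at h1
    linear_combination -h1
  have heps : (d - q) % p ≤ 1 := by
    rcases mul_eq_zero.1 hdelta with h | h
    · rw [(Nat.dvd_iff_mod_eq_zero).1 ((CharP.cast_eq_zero_iff k p _).1 h)]
      omega
    · rw [sub_eq_zero, ← Nat.cast_one, CharP.natCast_eq_natCast k p] at h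
      rw [h, Nat.one_mod_eq_one.2 (by omega)]
  have hkey : ∀ b ∈ B, ∃ (a : ℕ) (R1 : k[X]), R = (X - C b) ^ a * R1 ∧ R1.eval b ≠ 0 ∧ (r b = 0 ∨ r b = a + 1) := by
    intro b hb
    obtain ⟨a, R1, hR1, hR1', ha⟩ := exists_order (e := e) hP b
    obtain ⟨H1, hH1, hH1'⟩ := exists_factor hH0 b
    have hSb : (X - C b) ^ (a - 1) ∣ S := by
      rcases ha with ⟨i, rfl, rfl⟩ | rfl
      · rw [show e i - 1 - 1 = e i - 2 by omega]; exact hS i
      · simp
    have halt : a + 1 < p := by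
      rcases ha with ⟨i, rfl, rfl⟩ | rfl
      · have := he i; have := hlt i; omega
      · omega
    refine ⟨a, R1, hR1, hR1', ?_⟩
    rw [hr b hb]
    rcases mul_eq_zero.1 (local_congr hR1 hR1' hH1 hH1' heq hSb) with h | h
    · exact Or.inl (Nat.dvd_iff_mod_eq_zero.1 ((CharP.cast_eq_zero_iff k p _).1 h))
    · right
      have h2 : ((H.rootMultiplicity b : ℕ) : k) = ((a + 1 : ℕ) : k) := by push_cast; linear_combination h
      rw [CharP.natCast_eq_natCast k p] at h2
      rw [h2, Nat.mod_eq_of_lt halt]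
  have hord : ∀ b ∈ B, (X - C b) ^ (r b - 1) ∣ R := fun b hb => by
    obtain ⟨a, R1, hR1, -, h | h⟩ := hkey b hb
    · rw [h]; simp
    · rw [h, Nat.add_sub_cancel, hR1]; exact dvd_mul_right _ _
  have hord' : ∀ b ∈ B, r b ≠ 0 → ¬ (X - C b) ^ r b ∣ R := fun b hb hb0 hdvd => by
    obtain ⟨a, R1, hR1, hR1', h | h⟩ := hkey b hb
    · exact hb0 h
    · rw [h, hR1, pow_succ] at hdvd
      exact hR1' (dvd_iff_isRoot.1 ((mul_dvd_mul_iff_left (pow_ne_zero _ (X_sub_C_ne_zero b))).1 hdvd))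
  have hexQ : Exact p (R * Q ^ (p - 2)) := by
    refine exact_of_mul (V := U ^ (p - 2)) ?_ (pow_ne_zero _ hU0) ?_
    · rw [derivative_pow, hU, mul_zero]
    · rw [show U ^ (p - 2) * (R * Q ^ (p - 2)) = R * H ^ (p - 2) by rw [hHQ, mul_pow]; ring]
      exact hex
  obtain ⟨F, hF, hFd⟩ := exists_partner_degree p (exists_partner hord hexQ) hQm ram_ne_zero hq.symm
    (by omega)
  obtain ⟨hmem, hinf⟩ := pencil_of_wronskian p hP he hlt hF hord' rfl hq.symm (by omega)
  have hdiv := Nat.div_add_mod (d - q) p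
  refine ⟨(d - q) / p, (d - q) % p, Nat.div_pos (by omega) (by omega), ?_, heps, Submodule.span k {Q, F}, ?_, ?_⟩
  · rw [mul_comm]; omega
  · rw [mul_comm ((d - q) / p) p, show d + p * ((d - q) / p) - 1 + (d - q) % p = F.natDegree by omega]
    exact hmem
  · rw [mul_assoc 2, mul_comm ((d - q) / p) p, show d + p * ((d - q) / p) - 1 + (d - q) % p = F.natDegree by omega,
      show 2 * (p * ((d - q) / p)) - 1 + 2 * ((d - q) % p) = F.natDegree - q by omega]
    exact hinf

end InsepLimLib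

end
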