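import Groth.Agent.InsepLimLib.Basic
import Groth.Prelude.Def_W4c1limliniiiiRamP1

/-!
# The new pencil attached to an inseparable limit
-/

set_option autoImplicit false

universe u

open Polynomial W4c1limliniiii

noncomputable section

namespace InsepLimLib

variable {k : Type u} [Field k] {n : ℕ} {e : Fin n → ℕ} {P : Fin n → k}

/-- The order of the ramification polynomial at a point. -/
theorem exists_order (hP : Function.Injective P) (b : k) :
    ∃ (a : ℕ) (R1 : k[X]), ∏ i, (X - C (P i)) ^ (e i - 1) = (X - C b) ^ a * R1 ∧ R1.eval b ≠ 0 ∧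
      ((∃ i, b = P i ∧ a = e i - 1) ∨ a = 0) := by
  classical
  by_cases h : ∃ i, b = P i
  · obtain ⟨i, rfl⟩ := h
    refine ⟨e i - 1, ∏ j ∈ Finset.univ.erase i, (X - C (P j)) ^ (e j - 1),
      (Finset.mul_prod_erase _ (fun j => (X - C (P j)) ^ (e j - 1)) (Finset.mem_univ i)).symm, ?_,
      Or.inl ⟨i, rfl, rfl⟩⟩
    rw [eval_prod]
    refine Finset.prod_ne_zero_iff.2 fun j hj => ?_
    rw [eval_pow, eval_sub, eval_X, eval_C]
    exact pow_ne_zero _ (sub_ne_zero.2 fun h' => Finset.ne_of_mem_erase hj (hP h').symm)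
  · refine ⟨0, _, by rw [pow_zero, one_mul], ?_, Or.inr rfl⟩
    rw [eval_prod]
    refine Finset.prod_ne_zero_iff.2 fun j _ => ?_
    rw [eval_pow, eval_sub, eval_X, eval_C]
    exact pow_ne_zero _ (sub_ne_zero.2 fun h' => h ⟨j, h'⟩)

theorem ram_ne_zero : ∏ i, (X - C (P i)) ^ (e i - 1) ≠ 0 :=
  Finset.prod_ne_zero_iff.2 fun _ _ => pow_ne_zero _ (X_sub_C_ne_zero _)

theorem natDegree_ram {d : ℕ} (he : ∀ i, 1 ≤ e i) (hsum : (∑ i, e i) + 2 = 2 * d + n) :
    (∏ i, (X - C (P i)) ^ (e i - 1)).natDegree = 2 * d - 2 := by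
  rw [natDegree_prod _ _ fun i _ => pow_ne_zero _ (X_sub_C_ne_zero _)]
  simp only [natDegree_pow, natDegree_X_sub_C, mul_one]
  have h2 : ∑ i, (e i - 1) + ∑ _i : Fin n, 1 = ∑ i, e i := by
    rw [← Finset.sum_add_distrib]
    exact Finset.sum_congr rfl fun i _ => Nat.sub_add_cancel (he i)
  simp at h2
  omega

theorem wronskian_comb (x y z w : k) (Q F : k[X]) :
    wronskian (C x * Q + C y * F) (C z * Q + C w * F) = C (x * w - y * z) * wronskian Q F := by
  simp only [wronskian, map_add, map_sub, map_mul, derivative_C_mul]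
  ring

/-- A pair with Wronskian the ramification polynomial spans a pencil with that ramification. -/
theorem pencil_of_wronskian (p : ℕ) [Fact p.Prime] [CharP k p] (hP : Function.Injective P)
    (he : ∀ i, 2 ≤ e i) (hlt : ∀ i, e i < p) {B : Finset k} {r : k → ℕ} {F : k[X]} {D q : ℕ}
    (hW : wronskian (∏ b ∈ B, (X - C b) ^ r b) F = ∏ i, (X - C (P i)) ^ (e i - 1))
    (hord : ∀ b ∈ B, r b ≠ 0 → ¬ (X - C b) ^ r b ∣ ∏ i, (X - C (P i)) ^ (e i - 1))
    (hF : F.natDegree = D) (hq : (∏ b ∈ B, (X - C b) ^ r b).natDegree = q) (hqD : q < D) :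
    Submodule.span k {∏ b ∈ B, (X - C b) ^ r b, F} ∈ ramMaps D P e ∧
      HasRamIdxInf D (Submodule.span k {∏ b ∈ B, (X - C b) ^ r b, F}) (D - q) := by
  classical
  set Q := ∏ b ∈ B, (X - C b) ^ r b with hQ
  set R := ∏ i, (X - C (P i)) ^ (e i - 1) with hR
  have hR0 : R ≠ 0 := ram_ne_zero
  set V := Submodule.span k {Q, F} with hV
  have hQV : Q ∈ V := Submodule.subset_span (Set.mem_insert _ _)
  have hFV : F ∈ V := Submodule.subset_span (Set.mem_insert_of_mem _ rfl)
  have hmem : ∀ s ∈ V, ∃ x y : k, C x * Q + C y * F = s := fun s hs => by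
    rw [hV, Submodule.mem_span_pair] at hs
    obtain ⟨x, y, h⟩ := hs
    exact ⟨x, y, by rw [← smul_eq_C_mul, ← smul_eq_C_mul]; exact h⟩
  have hcomb : ∀ x y : k, C x * Q + C y * F ∈ V := fun x y => by
    rw [← smul_eq_C_mul, ← smul_eq_C_mul]; exact add_mem (V.smul_mem _ hQV) (V.smul_mem _ hFV)
  have hindep : ∀ x y : k, C x * Q + C y * F = 0 → x = 0 ∧ y = 0 := fun x y h => by
    have h1 := wronskian_comb x y 1 0 Q F
    have h2 := wronskian_comb x y 0 1 Q F
    rw [h, wronskian_zero_left, hW] at h1 h2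
    simp [hR0] at h1 h2
    exact ⟨h2, h1⟩
  have hbpf : ∀ b : k, ¬ (Q.eval b = 0 ∧ F.eval b = 0) := by
    rintro b ⟨hQb, hFb⟩
    rw [hQ, eval_prod, Finset.prod_eq_zero_iff] at hQb
    obtain ⟨c, hc, hcb⟩ := hQb
    rw [eval_pow, eval_sub, eval_X, eval_C, pow_eq_zero_iff', sub_eq_zero] at hcb
    obtain ⟨rfl, hr⟩ := hcb
    obtain ⟨Q1, hQ1⟩ := Finset.dvd_prod_of_mem (fun c => (X - C c) ^ r c) hc
    obtain ⟨F1, hF1⟩ : X - C b ∣ F := dvd_iff_isRoot.2 hFb
    refine hord b hc hr ⟨Q1 * derivative F - ((r b : k[X]) * Q1 + (X - C b) * derivative Q1) * F1, ?_⟩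
    have he' := euler b (r b) Q1
    rw [← hQ] at hQ1
    rw [← hQ1] at he'
    rw [← hW, wronskian]
    linear_combination (derivative F) * hQ1 - derivative Q * hF1 - F1 * he'
  refine ⟨⟨⟨?_, ?_, ⟨F, hFV, hF⟩, fun b => ?_⟩, ⟨Q, hQV, F, hFV, hW ▸ hR0⟩, fun i => ⟨?_, ?_⟩⟩, ?_, ?_⟩
  · rw [hV, Submodule.span_le]
    rintro x (rfl | rfl)
    · exact Polynomial.mem_degreeLE.2 (degree_le_of_natDegree_le (by omega))
    · exact Polynomial.mem_degreeLE.2 (degree_le_of_natDegree_le hF.le)
  · have hli : LinearIndependent k ![Q, F] := LinearIndependent.pair_iff.2 fun x y h => by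
      rw [smul_eq_C_mul, smul_eq_C_mul] at h
      exact hindep x y h
    have := finrank_span_eq_card hli
    rwa [Matrix.range_cons, Matrix.range_cons, Matrix.range_empty, Set.union_empty, Set.singleton_union,
      Fintype.card_fin] at this
  · by_cases h : Q.eval b = 0
    · exact ⟨F, hFV, fun h' => hbpf b ⟨h, h'⟩⟩
    · exact ⟨Q, hQV, h⟩
  · refine ⟨C (F.eval (P i)) * Q + C (-Q.eval (P i)) * F, hcomb _ _, fun h => ?_, ?_⟩
    · obtain ⟨h1, h2⟩ := hindep _ _ h
      exact hbpf (P i) ⟨neg_eq_zero.1 h2, h1⟩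
    · set s := C (F.eval (P i)) * Q + C (-Q.eval (P i)) * F with hs
      have hs0 : s ≠ 0 := fun h => by
        obtain ⟨h1, h2⟩ := hindep _ _ h
        exact hbpf (P i) ⟨neg_eq_zero.1 h2, h1⟩
      obtain ⟨S1, hS1, hS1'⟩ := exists_factor hs0 (P i)
      set o := s.rootMultiplicity (P i)
      have ho : 1 ≤ o := (rootMultiplicity_pos hs0).2 (by simp [hs, IsRoot]; ring)
      obtain ⟨T, hT0⟩ : ∃ T ∈ ({Q, F} : Set k[X]), T.eval (P i) ≠ 0 := by
        by_cases h : Q.eval (P i) = 0
        · exact ⟨F, Or.inr rfl, fun h' => hbpf _ ⟨h, h'⟩⟩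
        · exact ⟨Q, Or.inl rfl, h⟩
      obtain ⟨z, w, hzw⟩ := hmem T (Submodule.subset_span hT0.1)
      obtain ⟨a, R1, hR1, hR1', ha⟩ := exists_order (e := e) hP (P i)
      rw [← hR] at hR1
      have ha' : a = e i - 1 := by
        rcases ha with ⟨j, hj, hj'⟩ | h0
        · rw [hj', hP hj]
        · exfalso
          obtain ⟨R2, hR2⟩ := Finset.dvd_prod_of_mem (fun j => (X - C (P j)) ^ (e j - 1)) (Finset.mem_univ i)
          rw [h0, pow_zero, one_mul] at hR1
          rw [← hR1, hR, hR2] at hR1'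
          have : e i - 1 ≠ 0 := by have := he i; omega
          simp [zero_pow this] at hR1'
      by_contra hlt'
      rw [not_le] at hlt'
      have hdet : wronskian s T = C (F.eval (P i) * w - -Q.eval (P i) * z) * R := by
        rw [hs, ← hzw, wronskian_comb, hW]
      set c := F.eval (P i) * w - -Q.eval (P i) * z
      have e1 : (X - C (P i)) * derivative s =
          (X - C (P i)) ^ o * ((o : k[X]) * S1 + (X - C (P i)) * derivative S1) := by
        rw [hS1]; exact euler (P i) o S1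
      have key : (X - C (P i)) ^ o * (S1 * (X - C (P i)) * derivative T -
          ((o : k[X]) * S1 + (X - C (P i)) * derivative S1) * T -
          C c * (X - C (P i)) ^ (a + 1 - o) * R1) = 0 := by
        rw [wronskian, hR1] at hdet
        have hpow : (X - C (P i)) ^ o * (X - C (P i)) ^ (a + 1 - o) = (X - C (P i)) ^ a * (X - C (P i)) := by
          rw [← pow_add, ← pow_succ, show o + (a + 1 - o) = a + 1 by omega]
        linear_combination (X - C (P i)) * hdet - (X - C (P i)) * derivative T * hS1 + T * e1 - C c * R1 * hpow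
      have h0 := congrArg (Polynomial.eval (P i))
        ((mul_eq_zero.1 key).resolve_left (pow_ne_zero _ (X_sub_C_ne_zero (P i))))
      simp [zero_pow (show a + 1 - o ≠ 0 by omega)] at h0
      rcases h0 with (h0 | h0) | h0
      · rw [CharP.cast_eq_zero_iff k p] at h0
        have := Nat.le_of_dvd (by omega) h0
        have := hlt i
        omega
      · exact hS1' h0
      · exact hT0.2 h0
  · intro s hs hs0
    obtain ⟨x, y, rfl⟩ := hmem s hs
    obtain ⟨S1, hS1, hS1'⟩ := exists_factor hs0 (P i)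
    set o := (C x * Q + C y * F).rootMultiplicity (P i)
    obtain ⟨z, w, hdet⟩ : ∃ z w : k, x * w - y * z ≠ 0 := by
      by_cases hx : x = 0
      · refine ⟨1, 0, ?_⟩
        simp only [hx, zero_mul, mul_one, zero_sub, neg_ne_zero]
        exact fun hy => hs0 (by simp [hx, hy])
      · exact ⟨0, 1, by simpa using hx⟩
    by_contra hlt'
    rw [not_le] at hlt'
    have h1 : (X - C (P i)) ^ (o - 1) ∣ C (x * w - y * z) * R := by
      rw [← hW, ← wronskian_comb]
      exact RamMapLib.pow_pred_dvd_wronskian_left ⟨S1, hS1⟩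
    obtain ⟨a, R1, hR1, hR1', ha⟩ := exists_order (e := e) hP (P i)
    rw [← hR] at hR1
    have hale : a ≤ e i - 1 := by
      rcases ha with ⟨j, hj, hj'⟩ | h0
      · rw [hj', hP hj]
      · omega
    have h2 : (X - C (P i)) ^ (a + 1) ∣ C (x * w - y * z) * R :=
      (pow_dvd_pow _ (by have := he i; omega)).trans h1
    rw [hR1, pow_succ, mul_left_comm] at h2
    have h3 := (mul_dvd_mul_iff_left (pow_ne_zero _ (X_sub_C_ne_zero (P i)))).1 h2
    rw [dvd_iff_isRoot, IsRoot, eval_mul, eval_C] at h3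
    exact hR1' ((mul_eq_zero.1 h3).resolve_left hdet)
  · refine ⟨Q, hQV, ?_, by omega⟩
    exact fun h => (hW ▸ hR0) (by rw [h, wronskian_zero_left])
  · intro s hs hs0
    obtain ⟨x, y, rfl⟩ := hmem s hs
    by_cases hy : y = 0
    · have hx : x ≠ 0 := fun hx => hs0 (by simp [hx, hy])
      rw [hy, map_zero, zero_mul, add_zero, natDegree_C_mul hx, hq]
      omega
    · rw [natDegree_add_eq_right_of_natDegree_lt, natDegree_C_mul hy, hF]
      · omega
      · rw [natDegree_C_mul hy, hF]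
        exact lt_of_le_of_lt (natDegree_C_mul_le _ _) (by omega)

end InsepLimLib

end
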